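import Groth.Prelude.Def_FlatCA
import Mathlib

/-!
# Weakly associated primes under a flat base change: descent
-/

set_option autoImplicit false

universe u

open TensorProduct

namespace Groth.Agent.WeakAssBC

variable {S T : Type*} [CommRing S] [CommRing T] [Algebra S T] [Module.Flat S T]
  {P P' : Type*} [AddCommGroup P] [Module S P] [AddCommGroup P'] [Module S P'] [Module T P']
  [IsScalarTower S T P'] {g : P →ₗ[S] P'}

/-- The annihilator of an element after flat base change is the extension of the annihilator. -/
theorem annihilator_le_map (hg : IsBaseChange T g) (m : P) :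
    (Submodule.span T {g m}).annihilator ≤
      (Submodule.span S {m}).annihilator.map (algebraMap S T) := by
  intro t ht
  rw [Submodule.mem_annihilator_span_singleton] at ht
  let I : Ideal S := (Submodule.span S {m}).annihilator
  have hex : Function.Exact I.subtype (LinearMap.toSpanSingleton S P m) := by
    intro x
    show LinearMap.toSpanSingleton S P m x = 0 ↔ x ∈ Set.range I.subtype
    simp [I, Submodule.mem_annihilator_span_singleton]
  have h2 := Module.Flat.lTensor_exact T hex
  have h3 : (LinearMap.toSpanSingleton S P m).lTensor T (t ⊗ₜ[S] (1 : S)) = 0 := by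
    rw [LinearMap.lTensor_tmul, LinearMap.toSpanSingleton_apply, one_smul]
    apply hg.equiv.injective
    rw [map_zero, hg.equiv_tmul, ht]
  obtain ⟨y, hy⟩ := (h2 _).1 h3
  have key : ∀ y : T ⊗[S] I, TensorProduct.rid S T (I.subtype.lTensor T y) ∈ I.map (algebraMap S T) := by
    intro y
    induction y with
    | zero => simp
    | tmul a i =>
      rw [LinearMap.lTensor_tmul, TensorProduct.rid_tmul, Algebra.smul_def]
      exact Ideal.mul_mem_right _ _ (Ideal.mem_map_of_mem _ i.2)
    | add a b ha hb => rw [map_add, map_add]; exact add_mem ha hb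
  have := key y
  rw [hy, TensorProduct.rid_tmul, one_smul] at this
  exact this

/-- A weakly associated prime of a flat base change contracts to a weakly associated prime. -/
theorem comap_minimalPrimes (hg : IsBaseChange T g) (m : P) (q : Ideal T)
    (hq : q ∈ (Submodule.span T {g m}).annihilator.minimalPrimes) :
    q.comap (algebraMap S T) ∈ (Submodule.span S {m}).annihilator.minimalPrimes := by
  haveI := hq.1.1
  have hle : (Submodule.span S {m}).annihilator ≤ q.comap (algebraMap S T) := fun a ha => by
    refine hq.1.2 ?_
    rw [Submodule.mem_annihilator_span_singleton] at ha ⊢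
    rw [algebraMap_smul, ← map_smul, ha, map_zero]
  refine ⟨⟨hq.1.1.comap _, hle⟩, fun p' hp' hp'q => ?_⟩
  haveI := hp'.1
  haveI : q.LiesOver (q.comap (algebraMap S T)) := ⟨rfl⟩
  obtain ⟨Q, hQq, hQ, hQp⟩ := Ideal.exists_ideal_le_liesOver_of_le
    (p := p') (q := q.comap (algebraMap S T)) q hp'q
  have h2 : (Submodule.span T {g m}).annihilator ≤ Q := by
    refine (annihilator_le_map hg m).trans (Ideal.map_le_iff_le_comap.2 ?_)
    exact hp'.2.trans (le_of_eq hQp.over)
  have h3 : q ≤ Q := hq.2 ⟨hQ, h2⟩ hQq
  calc q.comap (algebraMap S T) ≤ Q.comap (algebraMap S T) := Ideal.comap_mono h3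
    _ = p' := hQp.over.symm

end Groth.Agent.WeakAssBC
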