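import Groth.Agent.WeakAssBC.Field
import Groth.Agent.FlatModBC.Sections
import Groth.Agent.WeakAssLib.Basic

/-!
# Weakly associated points under a base field extension
-/

set_option autoImplicit false
set_option linter.style.haveILetI false
set_option backward.isDefEq.respectTransparency false

universe u

open CategoryTheory CategoryTheory.Limits AlgebraicGeometry TopologicalSpace TensorProduct

namespace Groth.Agent.WeakAssBC

theorem isWeakAssPoint_of_baseChange {k K : Type u} [Field k] [Field K] [Algebra k K]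
    {X X' : Scheme.{u}} {f : X ⟶ Spec (.of k)} {f' : X' ⟶ Spec (.of K)} {g' : X' ⟶ X}
    (hc : IsPullback g' f' f (Spec.map (CommRingCat.ofHom (algebraMap k K))))
    (F : X.Modules) [hq : Coh.IsQCoh F] (y : X')
    (hy : Curv2.IsWeakAssPoint ((Scheme.Modules.pullback g').obj F) y) :
    Curv2.IsWeakAssPoint F (g' y) := by
  obtain ⟨W, hW, hxW, -⟩ := exists_isAffineOpen_mem_and_subset (x := g' y) (U := ⊤) trivial
  let W' : X'.Opens := g' ⁻¹ᵁ W ⊓ f' ⁻¹ᵁ ⊤
  have e : W ≤ f ⁻¹ᵁ ⊤ := le_top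
  have eO : (⊤ : (Spec (CommRingCat.of K)).Opens) ≤ (Spec.map (CommRingCat.ofHom (algebraMap k K))) ⁻¹ᵁ ⊤ := le_top
  have hV := isAffineOpen_top (Spec (CommRingCat.of k))
  have hO := isAffineOpen_top (Spec (CommRingCat.of K))
  have hW' : IsAffineOpen W' := by
    haveI : IsAffine _ := hV
    haveI : IsAffine _ := hW
    haveI : IsAffine _ := hO
    exact .of_isIso (Scheme.Hom.isPullback_resLE hc eO e (rfl : W' = _)).isoPullback.hom
  have hP := (isIso_pushoutSection_iff hc eO e (rfl : W' = _)).1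
    (isIso_pushoutSection_of_isAffineOpen hc eO e rfl hV hO hW)
  let B := Γ(X, W)
  let B' := Γ(X', W')
  let fk : CommRingCat.of k ⟶ Γ(X, W) := (Scheme.ΓSpecIso _).inv ≫ f.appLE ⊤ W e
  let fK : CommRingCat.of K ⟶ Γ(X', W') := (Scheme.ΓSpecIso _).inv ≫ f'.appLE ⊤ W' inf_le_right
  have hP' : IsPushout fk (CommRingCat.ofHom (algebraMap k K)) (g'.appLE W W' inf_le_left) fK := by
    refine hP.of_iso (Scheme.ΓSpecIso _) (Iso.refl _) (Scheme.ΓSpecIso _) (Iso.refl _)
      ?_ ?_ ?_ ?_
    · rw [Iso.refl_hom, Category.comp_id, Iso.hom_inv_id_assoc]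
    · rw [show (Spec.map (CommRingCat.ofHom (algebraMap k K))).appLE ⊤ ⊤ eO = (Spec.map (CommRingCat.ofHom (algebraMap k K))).appTop from
        Scheme.Hom.appLE_eq_app _]
      exact Scheme.ΓSpecIso_naturality _
    · rw [Iso.refl_hom, Category.comp_id, Iso.refl_hom, Category.id_comp]
    · rw [Iso.refl_hom, Category.comp_id, Iso.hom_inv_id_assoc]
  letI : Algebra k B := fk.hom.toAlgebra
  letI : Algebra B B' := (g'.appLE W W' inf_le_left).hom.toAlgebra
  letI : Algebra K B' := fK.hom.toAlgebra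
  letI : Algebra k B' := ((algebraMap B B').comp (algebraMap k B)).toAlgebra
  haveI : IsScalarTower k B B' := IsScalarTower.of_algebraMap_eq fun _ => rfl
  haveI : IsScalarTower k K B' := IsScalarTower.of_algebraMap_eq fun a => congr($(hP'.w).hom a)
  haveI : Algebra.IsPushout k B K B' := CommRingCat.isPushout_iff_isPushout.1 hP'
  haveI : Algebra.IsPushout k K B B' := Algebra.IsPushout.symm inferInstance
  let M : Type u := Γ(F, W)
  have hx' : y ∈ W' := ⟨hxW, trivial⟩
  let Q := (hW'.primeIdealOf ⟨y, hx'⟩).asIdeal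
  let R := X.presheaf.stalk (g' y)
  let L := X'.presheaf.stalk y
  let N : Type u := F.presheaf.stalk (g' y)
  letI : Algebra B R := (X.presheaf.germ W (g' y) hxW).hom.toAlgebra
  haveI : IsLocalization.AtPrime R (hW.primeIdealOf ⟨g' y, hxW⟩).asIdeal := hW.isLocalization_stalk ⟨_, hxW⟩
  letI : Algebra B' L := (X'.presheaf.germ W' y hx').hom.toAlgebra
  haveI : IsLocalization.AtPrime L Q := hW'.isLocalization_stalk ⟨y, hx'⟩
  letI : Algebra R L := (g'.stalkMap y).hom.toAlgebra
  letI : Algebra B L := ((algebraMap B' L).comp (algebraMap B B')).toAlgebra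
  haveI : IsScalarTower B B' L := IsScalarTower.of_algebraMap_eq fun _ => rfl
  haveI : IsScalarTower B R L := IsScalarTower.of_algebraMap_eq fun b =>
    (FibCrit.germ_comm g' W W' inf_le_left y hx' b).symm
  letI : Module B N := Module.compHom N (X.presheaf.germ W (g' y) hxW).hom
  haveI : IsScalarTower B R N := IsScalarTower.of_algebraMap_smul fun _ _ => rfl
  obtain ⟨φ, hφ⟩ := LocFree.exists_stalkMap hW hq hxW
  haveI := hφ
  let eN : R ⊗[B] M ≃ₗ[R] N :=
    (IsLocalizedModule.isBaseChange (hW.primeIdealOf ⟨g' y, hxW⟩).asIdeal.primeCompl R φ).equiv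
  let eP : ((Scheme.Modules.pullback g').obj F).presheaf.stalk y ≃ₗ[L] L ⊗[R] N :=
    ((KFlat.pullStalkIso g' y).app F).toLinearEquiv
  let eL : L ⊗[R] N ≃ₗ[L] L ⊗[B'] (B' ⊗[B] M) :=
    (AlgebraTensorModule.congr (LinearEquiv.refl L L) eN.symm).trans
      ((AlgebraTensorModule.cancelBaseChange B R L L M).trans
        (AlgebraTensorModule.cancelBaseChange B B' L L M).symm)
  obtain ⟨m, hm⟩ := hy
  have hQm : ∀ a ∈ Q, algebraMap B' L a ∈ IsLocalRing.maximalIdeal L := fun a ha =>
    (IsLocalization.AtPrime.to_map_mem_maximal_iff L Q a).2 ha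
  have hQw : Q ∈ FlatCA.weakAss B' (B' ⊗[B] M) := by
    rw [RG.WAss.mem_weakAss_iff Q (TensorProduct.mk B' L (B' ⊗[B] M) 1)]
    refine ⟨eP.trans eL m, fun h => ?_, fun a ha => ?_⟩
    · rw [LinearEquiv.map_eq_zero_iff] at h
      rw [h, LinearMap.toSpanSingleton_zero, LinearMap.ker_zero, Ideal.radical_top] at hm
      exact (IsLocalRing.maximalIdeal.isMaximal _).ne_top hm.symm
    · have h1 := hQm a ha
      rw [← hm] at h1
      obtain ⟨n, hn⟩ := h1
      refine ⟨n, ?_⟩
      rw [← algebraMap_smul L (a ^ n) (eP.trans eL m), map_pow, ← map_smul,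
        show algebraMap B' L a ^ n • m = 0 from hn, map_zero]
  have hp := main (k := k) (K := K) (TensorProduct.mk B B' M 1)
    (TensorProduct.isBaseChange B M B') Q hQw
  have hcomap : Q.comap (algebraMap B B') = (hW.primeIdealOf ⟨g' y, hxW⟩).asIdeal := by
    ext b
    rw [Ideal.mem_comap]
    refine (IsLocalization.AtPrime.to_map_mem_maximal_iff L Q _).symm.trans
      (Iff.trans ?_ (IsLocalization.AtPrime.to_map_mem_maximal_iff R _ b))
    rw [← IsScalarTower.algebraMap_apply B B' L, IsScalarTower.algebraMap_apply B R L]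
    exact map_mem_nonunits_iff (g'.stalkMap y).hom _
  rw [hcomap] at hp
  obtain ⟨s, hs⟩ := hp
  refine (WeakAssLib.isWeakAssPoint_iff hW (Groth.Agent.QC.isLoc_of_isQCoh hW (hM := hq)) hxW).2 ⟨s, ?_⟩
  convert hs using 2
  ext a
  rw [Submodule.mem_annihilator_span_singleton]
  rfl

end Groth.Agent.WeakAssBC
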