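import Groth.Agent.WeakAssBC.Flat
import Groth.Agent.S1192

/-!
# Weakly associated primes under a base field extension
-/

set_option autoImplicit false
set_option backward.isDefEq.respectTransparency false

universe u

open TensorProduct

namespace Groth.Agent.WeakAssBC

variable {k K R : Type u} [Field k] [Field K] [Algebra k K] [CommRing R] [Algebra k R]
  {RK : Type u} [CommRing RK] [Algebra k RK] [Algebra K RK] [Algebra R RK]
  [IsScalarTower k K RK] [IsScalarTower k R RK] [Algebra.IsPushout k K R RK]
  {M : Type u} [AddCommGroup M] [Module R M]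
  {MK : Type u} [AddCommGroup MK] [Module RK MK] [Module R MK] [IsScalarTower R RK MK]

/-- A field extension of the fraction field is flat over the domain. -/
theorem flat_domain_field (B K : Type u) [CommRing B] [IsDomain B] [Field K] [Algebra B K]
    [FaithfulSMul B K] : Module.Flat B K := by
  let L := FractionRing B
  letI : Algebra L K := FractionRing.liftAlgebra B K
  haveI : IsScalarTower B L K := FractionRing.isScalarTower_liftAlgebra B K
  haveI : Module.Flat B L := IsLocalization.flat L (nonZeroDivisors B)
  exact Module.Flat.trans B L K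

include k in
theorem span_top (f : M →ₗ[R] MK) (hf : IsBaseChange RK f) (z : MK) :
    z ∈ Submodule.span R {x : MK | ∃ c n, x = algebraMap K RK c • f n} := by
  set W := Submodule.span R {x : MK | ∃ c n, x = algebraMap K RK c • f n}
  induction z using hf.inductionOn with
  | zero => exact W.zero_mem
  | tmul x => exact Submodule.subset_span ⟨1, x, by rw [map_one, one_smul]⟩
  | add a b ha hb => exact add_mem ha hb
  | smul t z hz =>
    revert z
    induction t using (Algebra.IsPushout.symm (inferInstance : Algebra.IsPushout k K R RK)).out.inductionOn with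
    | zero => intro z _; rw [zero_smul]; exact W.zero_mem
    | add a b ha hb => intro z hz; rw [add_smul]; exact add_mem (ha z hz) (hb z hz)
    | smul r a ha => intro z hz; rw [smul_assoc]; exact W.smul_mem r (ha z hz)
    | tmul c =>
      intro z hz
      induction hz using Submodule.span_induction with
      | zero => rw [smul_zero]; exact W.zero_mem
      | add a b _ _ ha hb => rw [smul_add]; exact add_mem ha hb
      | smul r a _ ha => rw [smul_comm]; exact W.smul_mem r ha
      | mem x hx =>
        obtain ⟨c', n, rfl⟩ := hx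
        refine Submodule.subset_span ⟨c * c', n, ?_⟩
        rw [map_mul, mul_smul]
        rfl

include k K in
theorem main (f : M →ₗ[R] MK) (hf : IsBaseChange RK f) (q : Ideal RK) [q.IsPrime]
    (hq : q ∈ FlatCA.weakAss RK MK) :
    q.comap (algebraMap R RK) ∈ FlatCA.weakAss R M := by
  obtain ⟨m, hm⟩ := hq
  classical
  obtain ⟨s, hs, hms⟩ := Submodule.mem_span_finite_of_mem_span (span_top (k := k) (K := K) f hf m)
  choose c n hcn using fun x : (s : Set MK) => hs x.2
  let B : Subalgebra k K := Algebra.adjoin k ((Finset.univ.image c : Finset K) : Set K)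
  have hcB : ∀ x, c x ∈ B := fun x => Algebra.subset_adjoin (by simp)
  haveI : Algebra.FiniteType k B :=
    (Subalgebra.fg_iff_finiteType _).1 (Subalgebra.fg_adjoin_finset _)
  haveI : Algebra.FinitePresentation k B := Algebra.FinitePresentation.of_finiteType.1 inferInstance
  haveI : FaithfulSMul B K := (faithfulSMul_iff_algebraMap_injective _ _).2 Subtype.val_injective
  haveI : Module.Flat B K := flat_domain_field B K
  letI : Algebra B (R ⊗[k] B) := Algebra.TensorProduct.rightAlgebra
  let φ : R ⊗[k] B →ₐ[R] RK := Algebra.TensorProduct.lift (Algebra.ofId R RK)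
    ((IsScalarTower.toAlgHom k K RK).comp B.val) (fun _ _ => Commute.all _ _)
  letI : Algebra (R ⊗[k] B) RK := φ.toRingHom.toAlgebra
  haveI : IsScalarTower R (R ⊗[k] B) RK := IsScalarTower.of_algebraMap_eq fun r => (φ.commutes r).symm
  haveI : IsScalarTower B (R ⊗[k] B) RK := IsScalarTower.of_algebraMap_eq fun b => by
    show algebraMap K RK (algebraMap B K b) = φ (1 ⊗ₜ b)
    simp [φ]
  haveI : IsScalarTower k B RK := IsScalarTower.of_algebraMap_eq fun a => by
    show _ = algebraMap K RK (algebraMap B K (algebraMap k B a))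
    rw [← IsScalarTower.algebraMap_apply k B K, ← IsScalarTower.algebraMap_apply k K RK]
  haveI : Algebra.IsPushout k B R (R ⊗[k] B) := TensorProduct.isPushout'
  haveI : IsScalarTower k (R ⊗[k] B) RK :=
    IsScalarTower.of_algebraMap_eq fun a => ((φ.restrictScalars k).commutes a).symm
  haveI h1 : Algebra.IsPushout B K (R ⊗[k] B) RK :=
    (Algebra.IsPushout.comp_iff (R := k) (S := B) (T := K) (R' := R) (S' := R ⊗[k] B) (T' := RK)).1
      inferInstance
  haveI : Module.Flat (R ⊗[k] B) RK := Module.Flat.isBaseChange (R := B) (R ⊗[k] B) (M := K) _ (f := (IsScalarTower.toAlgHom B K RK).toLinearMap) h1.symm.out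
  -- the module over the intermediate ring
  letI : Module (R ⊗[k] B) MK := Module.compHom MK φ.toRingHom
  haveI : IsScalarTower (R ⊗[k] B) RK MK := .of_algebraMap_smul fun _ _ => rfl
  haveI : IsScalarTower R (R ⊗[k] B) MK := ⟨fun r a x => by
    show φ (r • a) • x = r • (φ a • x)
    rw [map_smul, smul_assoc]⟩
  let f₁ : M →ₗ[R] (R ⊗[k] B) ⊗[R] M := TensorProduct.mk R _ M 1
  have hf₁ : IsBaseChange (R ⊗[k] B) f₁ := TensorProduct.isBaseChange R M _
  let g := hf₁.lift f
  have hg : IsBaseChange RK g := by
    refine IsBaseChange.of_comp hf₁ ?_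
    convert hf
    exact hf₁.lift_comp f
  have hmem : m ∈ LinearMap.range g := by
    have : Submodule.span R (s : Set MK) ≤ (LinearMap.range g).restrictScalars R := by
      refine Submodule.span_le.2 fun x hx => ?_
      refine ⟨((1 : R) ⊗ₜ[k] (⟨c ⟨x, hx⟩, hcB _⟩ : B)) • f₁ (n ⟨x, hx⟩), ?_⟩
      rw [map_smul, hf₁.lift_eq]
      show φ _ • _ = x
      conv_rhs => rw [show x = _ from hcn ⟨x, hx⟩]
      simp [φ]
    exact this hms
  obtain ⟨m', rfl⟩ := hmem
  haveI : Algebra.FinitePresentation R (R ⊗[k] B) := inferInstance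
  let qS := q.comap (algebraMap (R ⊗[k] B) RK)
  have hqS : qS ∈ FlatCA.weakAss (R ⊗[k] B) ((R ⊗[k] B) ⊗[R] M) :=
    ⟨m', comap_minimalPrimes hg m' q hm⟩
  have hp : (q.comap (algebraMap R RK)) = qS.comap (algebraMap R (R ⊗[k] B)) := by
    rw [Ideal.comap_comap, ← IsScalarTower.algebraMap_eq]
  rw [hp]
  haveI : qS.LiesOver (qS.comap (algebraMap R (R ⊗[k] B))) := ⟨rfl⟩
  exact ((Groth.Agent.S1192.result (R ⊗[k] B) M (qS.comap (algebraMap R (R ⊗[k] B))) qS).1 hqS).1

end Groth.Agent.WeakAssBC
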